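import Cfsg.Agent.Lib.EqualConj.Quaternion
import Cfsg.Agent.Lib.AbConj.Basic
import Cfsg.Agent.Lib.PSolvable
import Cfsg.Agent.S4025
import Cfsg.Agent.S0251

/-!
# Groups in which subgroups of equal prime power order are conjugate

The hypothesis of S4019, its inheritance by quotients and the groups with a normal elementary abelian Sylow
2-subgroup.
-/

set_option autoImplicit false
set_option linter.unusedSectionVars false
set_option linter.style.haveILetI false

namespace CfsgLib.PConj

open Cfsg Subgroup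

universe u

/-- For every prime `p`, two `p`-subgroups of equal order are conjugate. -/
abbrev PC (G : Type u) [Group G] : Prop :=
  ∀ p : ℕ, p.Prime → ∀ H K : Subgroup G, IsPGroup p H → IsPGroup p K → Nat.card H = Nat.card K →
    ∃ g : G, K = H.map (MulAut.conj g).toMonoidHom

variable {G : Type u} [Group G] [Finite G]

/-- The preimage of a subgroup of a quotient has order the product. -/
theorem card_comap_mk (N : Subgroup G) [N.Normal] (L : Subgroup (G ⧸ N)) :
    Nat.card (L.comap (QuotientGroup.mk' N)) = Nat.card L * Nat.card N := by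
  have h1 := Subgroup.index_mul_card (L.comap (QuotientGroup.mk' N))
  have h2 := Subgroup.index_mul_card L
  rw [Subgroup.index_comap_of_surjective L (QuotientGroup.mk'_surjective N),
    Subgroup.card_eq_card_quotient_mul_card_subgroup N, ← h2, mul_assoc] at h1
  exact Nat.eq_of_mul_eq_mul_left (Nat.pos_of_ne_zero L.index_ne_zero_of_finite) h1

/-- A `p`-subgroup of a quotient is the image of a `p`-subgroup of the order of the Sylow subgroups of its
preimage. -/
theorem exists_lift {p : ℕ} [Fact p.Prime] (N : Subgroup G) [N.Normal] {H : Subgroup (G ⧸ N)}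
    (hH : IsPGroup p H) :
    ∃ S : Subgroup G, IsPGroup p S ∧ S.map (QuotientGroup.mk' N) = H ∧
      Nat.card S = p ^ (Nat.card H * Nat.card N).factorization p := by
  obtain ⟨S⟩ : Nonempty (Sylow p ↥(H.comap (QuotientGroup.mk' N))) := inferInstance
  refine ⟨(S : Subgroup _).map (H.comap (QuotientGroup.mk' N)).subtype, S.2.map _, ?_, ?_⟩
  · have hs : Function.Surjective ((QuotientGroup.mk' N).subgroupComap H) := by
      rintro ⟨y, hy⟩
      obtain ⟨x, rfl⟩ := QuotientGroup.mk'_surjective N y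
      exact ⟨⟨x, hy⟩, Subtype.ext rfl⟩
    have htop : ((S.mapSurjective hs : Sylow p H) : Subgroup H) = ⊤ :=
      ((S.mapSurjective hs).3 (hH.of_equiv Subgroup.topEquiv.symm) le_top).symm
    rw [Sylow.coe_mapSurjective] at htop
    rw [Subgroup.map_map, show (QuotientGroup.mk' N).comp (H.comap (QuotientGroup.mk' N)).subtype =
      H.subtype.comp ((QuotientGroup.mk' N).subgroupComap H) from MonoidHom.ext fun _ => rfl,
      ← Subgroup.map_map, htop, ← MonoidHom.range_eq_map, H.range_subtype]
  · rw [Subgroup.card_map_of_injective (Subgroup.subtype_injective _), Sylow.card_eq_multiplicity,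
      card_comap_mk]

/-- The property passes to quotients. -/
theorem PC.quotient (hP : PC G) (N : Subgroup G) [N.Normal] : PC (G ⧸ N) := by
  intro p hp H K hH hK h
  haveI : Fact p.Prime := ⟨hp⟩
  obtain ⟨S, hS, rfl, hSc⟩ := exists_lift N hH
  obtain ⟨R, hR, rfl, hRc⟩ := exists_lift N hK
  obtain ⟨g, hg⟩ := hP p hp S R hS hR (by rw [hSc, hRc, h])
  refine ⟨QuotientGroup.mk' N g, ?_⟩
  rw [hg, Subgroup.map_map, Subgroup.map_map]
  congr 1

/-- Abelian subgroups of equal prime power order are conjugate. -/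
theorem PC.hyp (hP : PC G) : AbConj.Hyp G := by
  rintro A B - - ⟨p, k, hp, -, hk⟩ h
  exact hP p hp.nat_prime A B (IsPGroup.of_card hk.symm) (IsPGroup.of_card (h.symm.trans hk.symm)) h

theorem isPGroup_zpowers {p k : ℕ} [Fact p.Prime] {x : G} (hx : orderOf x = p ^ k) : IsPGroup p (zpowers x) :=
  IsPGroup.of_card (n := k) (by rw [Nat.card_zpowers, hx])

/-- An element generating a subgroup of prime order lies in every normal subgroup meeting that order. -/
theorem PC.mem_normal (hP : PC G) {N : Subgroup G} [hN : N.Normal] {p : ℕ} [hp : Fact p.Prime]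
    (hd : p ∣ Nat.card N) {x : G} (hx : orderOf x = p) : x ∈ N := by
  obtain ⟨y, hy⟩ := exists_prime_orderOf_dvd_card' p hd
  obtain ⟨g, hg⟩ := hP p hp.out (zpowers (y : G)) (zpowers x)
    (isPGroup_zpowers (k := 1) (by rw [pow_one, Subgroup.orderOf_coe, hy]))
    (isPGroup_zpowers (k := 1) (by rw [pow_one, hx]))
    (by rw [Nat.card_zpowers, Nat.card_zpowers, Subgroup.orderOf_coe, hy, hx])
  have hxm : x ∈ (zpowers (y : G)).map (MulAut.conj g).toMonoidHom := hg ▸ mem_zpowers x
  obtain ⟨z, hz, rfl⟩ := hxm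
  exact hN.conj_mem z (zpowers_le.2 y.2 hz) g

/-- Involutions are conjugate. -/
theorem PC.invol_conj (hP : PC G) {a b : G} (ha : orderOf a = 2) (hb : orderOf b = 2) :
    ∃ c : G, c * a * c⁻¹ = b := by
  obtain ⟨c, hc⟩ := hP 2 Nat.prime_two (zpowers a) (zpowers b)
    (haveI : Fact (Nat.Prime 2) := ⟨Nat.prime_two⟩; isPGroup_zpowers (k := 1) (by rw [pow_one, ha]))
    (haveI : Fact (Nat.Prime 2) := ⟨Nat.prime_two⟩; isPGroup_zpowers (k := 1) (by rw [pow_one, hb]))
    (by rw [Nat.card_zpowers, Nat.card_zpowers, ha, hb])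
  obtain ⟨_, ⟨k, rfl⟩, hk⟩ : b ∈ (zpowers a).map (MulAut.conj c).toMonoidHom := hc ▸ mem_zpowers b
  refine ⟨c, ?_⟩
  have haa : a * a = 1 := by rw [← pow_two, ← ha, pow_orderOf_eq_one]
  rcases Int.even_or_odd k with ⟨j, rfl⟩ | ⟨j, rfl⟩
  · exfalso
    have : b = 1 := by
      rw [← hk]
      show (MulAut.conj c) (a ^ (j + j)) = 1
      rw [← two_mul, zpow_mul, zpow_two, haa, _root_.one_zpow, map_one]
    rw [this, orderOf_one] at hb
    norm_num at hb
  · rw [← hk]
    show c * a * c⁻¹ = c * a ^ (2 * j + 1) * c⁻¹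
    rw [zpow_add, zpow_mul, zpow_two, haa, _root_.one_zpow, one_mul, zpow_one]

section NormalSylow

variable {T : Sylow 2 G}

/-- A self-centralising normal four-group with transitive action: the group is alternating of degree four. -/
theorem normal_four (hP : PC G) (hcore : oddCore G = ⊥) (hsq : ∀ x ∈ (T : Subgroup G), x * x = 1)
    (h4 : Nat.card (T : Subgroup G) = 4) [(T : Subgroup G).Normal] :
    Nat.card G = 12 ∧ centralizer ((T : Subgroup G) : Set G) ≤ T := by
  classical
  haveI : Fact (Nat.Prime 2) := ⟨Nat.prime_two⟩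
  have hcomm : ∀ a ∈ (T : Subgroup G), ∀ b ∈ (T : Subgroup G), a * b = b * a := fun a ha b hb => by
    have hi : ∀ z ∈ (T : Subgroup G), z⁻¹ = z := fun z hz => inv_eq_of_mul_eq_one_right (hsq z hz)
    calc a * b = (a * b)⁻¹ := (hi _ (mul_mem ha hb)).symm
      _ = b * a := by rw [mul_inv_rev, hi b hb, hi a ha]
  set C := centralizer ((T : Subgroup G) : Set G) with hC
  have hTC : (T : Subgroup G) ≤ C := fun x hx => mem_centralizer_iff.2 fun y hy => hcomm y hy x hx
  haveI : C.Normal := inferInstance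
  -- the centraliser is the Sylow subgroup
  have hCT : C ≤ T := by
    obtain ⟨Q, O, hO, hOQ⟩ := CfsgLib.hasNormalPComplement_of_normalizer_le_centralizer (T.subtype hTC)
      fun c _ => mem_centralizer_iff.2 fun x hx => Subtype.ext (mem_centralizer_iff.1 c.2 x hx)
    haveI := hO
    have hO1 : O = ⊥ := by
      have h1 : O ≤ pPrimeCore 2 C := CfsgLib.le_pPrimeCore (by
        rw [← hOQ.index_eq_card]
        exact ((Nat.prime_two.coprime_iff_not_dvd).2 Q.not_dvd_index).symm)
      have h3 := (Subgroup.map_mono (f := C.subtype) h1).trans (CfsgLib.map_pPrimeCore_le 2 C)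
      rw [show pPrimeCore 2 G = ⊥ from hcore, le_bot_iff] at h3
      exact (Subgroup.map_eq_bot_iff_of_injective O C.subtype_injective).1 h3
    rw [hO1] at hOQ
    have htop := Subgroup.isComplement'_bot_left.1 hOQ
    have hp : IsPGroup 2 C := (htop ▸ Q.2 : IsPGroup 2 (⊤ : Subgroup C)).of_equiv Subgroup.topEquiv
    exact (T.3 hp hTC).le
  refine ⟨?_, hCT⟩
  -- the action on the three involutions
  let X := {x : (T : Subgroup G) // x ≠ 1}
  have hX : Nat.card X = 3 := by
    haveI := Fintype.ofFinite (T : Subgroup G)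
    rw [Nat.card_eq_fintype_card, Fintype.card_subtype_compl, Fintype.card_subtype_eq,
      ← Nat.card_eq_fintype_card, h4]
  let φ : G →* Equiv.Perm X :=
    { toFun := fun g =>
        { toFun := fun x => ⟨MulAut.conjNormal g x.1, fun e => x.2 ((MulAut.conjNormal g).map_eq_one_iff.1 e)⟩
          invFun := fun x => ⟨MulAut.conjNormal g⁻¹ x.1, fun e => x.2 ((MulAut.conjNormal g⁻¹).map_eq_one_iff.1 e)⟩
          left_inv := fun x => Subtype.ext (Subtype.ext (by simp [mul_assoc]))
          right_inv := fun x => Subtype.ext (Subtype.ext (by simp [mul_assoc])) }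
      map_one' := Equiv.ext fun x => Subtype.ext (Subtype.ext (by simp))
      map_mul' := fun g k => Equiv.ext fun x => Subtype.ext (Subtype.ext (by simp [mul_assoc])) }
  have hker : φ.ker ≤ T := fun g hg => hCT (mem_centralizer_iff.2 fun y hy => by
    by_cases h1 : y = 1
    · simp [h1]
    have h2 := congrArg (fun z : X => ((z.1 : (T : Subgroup G)) : G))
      (Equiv.congr_fun (MonoidHom.mem_ker.1 hg) ⟨⟨y, hy⟩, fun e => h1 (congrArg Subtype.val e)⟩)
    simp only [φ, MonoidHom.coe_mk, OneHom.coe_mk, Equiv.coe_fn_mk, MulAut.conjNormal_apply,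
      Equiv.Perm.one_apply] at h2
    exact (mul_inv_eq_iff_eq_mul.1 h2).symm)
  have hindex : (T : Subgroup G).index ∣ Nat.card φ.range := by
    rw [← Subgroup.index_ker]
    exact Subgroup.index_dvd_of_le hker
  have h6 : (T : Subgroup G).index ∣ 6 := by
    refine hindex.trans ((Subgroup.card_subgroup_dvd_card φ.range).trans ?_)
    rw [Nat.card_perm, hX]
    rfl
  have hidx : (T : Subgroup G).index ≠ 1 := by
    intro h1
    have htop := Subgroup.index_eq_one.1 h1
    haveI : Nontrivial (T : Subgroup G) := Finite.one_lt_card_iff_nontrivial.1 (by omega)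
    obtain ⟨a, ha⟩ := exists_ne (1 : (T : Subgroup G))
    obtain ⟨b, hb1, hba⟩ : ∃ b : (T : Subgroup G), b ≠ 1 ∧ b ≠ a := by
      by_contra hc
      push Not at hc
      haveI := Fintype.ofFinite (T : Subgroup G)
      have : Fintype.card (T : Subgroup G) ≤ ({1, a} : Finset _).card := by
        rw [← Finset.card_univ]
        refine Finset.card_le_card fun x _ => ?_
        by_cases hx : x = 1
        · simp [hx]
        · simp [hc x hx]
      rw [Finset.card_pair (Ne.symm ha), ← Nat.card_eq_fintype_card, h4] at this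
      omega
    have ho : ∀ x : (T : Subgroup G), x ≠ 1 → orderOf (x : G) = 2 := fun x hx =>
      orderOf_eq_prime (by rw [pow_two]; exact hsq x x.2) fun e => hx (Subtype.ext e)
    obtain ⟨c, hc⟩ := hP.invol_conj (ho a ha) (ho b hb1)
    rw [hcomm c (htop ▸ mem_top c) a a.2, mul_inv_cancel_right] at hc
    exact hba (Subtype.ext hc.symm)
  have hodd : ¬ 2 ∣ (T : Subgroup G).index := T.not_dvd_index
  have h3 : (T : Subgroup G).index = 3 := by
    have hle := Nat.le_of_dvd (by norm_num) h6
    interval_cases ((T : Subgroup G).index) <;> simp_all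
  rw [← (T : Subgroup G).index_mul_card, h3, h4]

/-- The groups with a normal elementary abelian Sylow 2-subgroup. -/
theorem normal_case (hP : PC G) (hcore : oddCore G = ⊥) (hsq : ∀ x ∈ (T : Subgroup G), x * x = 1)
    (hbig : 4 ≤ Nat.card (T : Subgroup G)) (hn : (T : Subgroup G).Normal) :
    (Nat.card (T : Subgroup G) = 4 ∧ Nat.card G = 12 ∧
      Nonempty (G ≃* Matrix.ProjectiveSpecialLinearGroup (Fin 2) (ZMod 3))) ∨
    Nat.card (T : Subgroup G) ≠ 4 ∧ (Nonempty (G ≃* Cfsg.affineGroup (GaloisField 2 3)) ∨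
    Nonempty (G ≃* Cfsg.semiaffineGroup (GaloisField 2 3)) ∨
    Nonempty (G ≃* Cfsg.semiaffineGroup (GaloisField 2 5))) := by
  haveI : Fact (Nat.Prime 2) := ⟨Nat.prime_two⟩
  haveI := hn
  obtain ⟨n, hcard⟩ := IsPGroup.iff_card.mp T.2
  rcases Nat.lt_or_ge n 3 with hlt | hge
  · left
    have h4 : Nat.card (T : Subgroup G) = 4 := by
      interval_cases n <;> simp_all
    obtain ⟨h12, hC⟩ := normal_four hP hcore hsq h4
    haveI : Fact (Nat.Prime 3) := ⟨Nat.prime_three⟩
    obtain ⟨a⟩ := Cfsg.Agent.S0251.result (F := ZMod 3) (ZMod.card 3)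
    obtain ⟨e⟩ := EqualConj.alt_four h12 (T : Subgroup G) h4 hC
    exact ⟨h4, h12, ⟨e.trans a.symm⟩⟩
  right
  have hne : Nat.card (T : Subgroup G) ≠ 4 := by
    rw [hcard]
    have : 2 ^ 3 ≤ 2 ^ n := Nat.pow_le_pow_right two_pos hge
    omega
  refine ⟨hne, ?_⟩
  have hel : Cfsg.IsElementaryAbelian 2 (T : Subgroup G) :=
    ⟨⟨⟨fun a b => Subtype.ext (by
      have hi : ∀ z ∈ (T : Subgroup G), z⁻¹ = z := fun z hz => inv_eq_of_mul_eq_one_right (hsq z hz)
      calc (a : G) * b = ((a : G) * b)⁻¹ := (hi _ (mul_mem a.2 b.2)).symm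
        _ = b * a := by rw [mul_inv_rev, hi b b.2, hi a a.2])⟩⟩, fun a ha => by rw [pow_two]; exact hsq a ha⟩
  set N := Subgroup.normalizer ((T : Subgroup G) : Set G) with hN
  have hNtop : N = ⊤ := normalizer_eq_top_iff.2 hn
  set e₀ : ↥N ≃* G := (MulEquiv.subgroupCongr hNtop).trans Subgroup.topEquiv
  have hK : pPrimeCore 2 ↥N = ⊥ := by
    have h1 := CfsgLib.pPrimeCore_map_equiv 2 e₀
    rw [show pPrimeCore 2 G = ⊥ from hcore] at h1
    exact (Subgroup.map_eq_bot_iff_of_injective _ e₀.injective).1 h1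
  have hiso : ↥N ⧸ pPrimeCore 2 ↥N ≃* G :=
    ((QuotientGroup.quotientMulEquivOfEq hK).trans QuotientGroup.quotientBot).trans e₀
  haveI hG : Group.IsSolvable G := by
    refine (Group.isSolvable_iff_subgroup_quotient (T : Subgroup G)).2 ⟨?_, ?_⟩
    · exact Group.isSolvable_of_comm fun a b => hel.1.is_comm.comm a b
    · refine CfsgLib.OddOrder.feitThompson ?_
      rw [← Subgroup.index_eq_card, Nat.odd_iff, ← Nat.two_dvd_ne_zero]
      exact T.not_dvd_index
  haveI : Group.IsSolvable (↥N ⧸ pPrimeCore 2 ↥N) :=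
    solvable_of_surjective (f := hiso.symm.toMonoidHom) hiso.symm.surjective
  rcases Cfsg.Agent.S4025.result (fun H K hH hK' h => hP 2 Nat.prime_two H K hH hK' h) T n hge hel hcard N hN
    inferInstance with ⟨-, -, hh⟩ | ⟨-, -, ⟨f⟩⟩
  · rcases hh rfl with ⟨⟨f⟩⟩ | ⟨⟨f⟩⟩
    · exact Or.inr (Or.inl ⟨hiso.symm.trans f⟩)
    · exact Or.inl ⟨hiso.symm.trans f⟩
  · exact Or.inr (Or.inr ⟨hiso.symm.trans f⟩)

end NormalSylow

end CfsgLib.PConj
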