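import Cfsg.Agent.Lib.PSL2.Out
import Cfsg.Agent.Lib.Chev.Aut.FieldCyclic
import Mathlib.Algebra.CharP.Basic

/-!
Transitivity of a set of automorphisms of `PSL₂(p^f)`, `p` odd, on the planes of unitriangular elements over the
prime field bounds `f`.
-/

set_option autoImplicit false
set_option linter.unusedSectionVars false
set_option linter.style.haveILetI false

namespace CfsgLib.PConj

open Matrix CfsgLib.PSL2

variable {F : Type} [Field F] [Fintype F] (p : ℕ) [Fact p.Prime] [CharP F p]

local notation "PSL" => Matrix.ProjectiveSpecialLinearGroup (Fin 2) F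

/-- The prime field inside `F`. -/
def ι : ZMod p →+* F := ZMod.castHom dvd_rfl F

/-- The additive plane spanned by `1` and `r`. -/
def lin (r : F) : ZMod p × ZMod p →+ F where
  toFun w := ι p w.1 + ι p w.2 * r
  map_zero' := by simp
  map_add' a b := by simp only [Prod.fst_add, Prod.snd_add, map_add]; ring

/-- The group of unitriangular elements with entries in the plane of `1` and `r`. -/
def plane (r : F) : Subgroup PSL :=
  ((uHom : Multiplicative F →* PSL).comp (AddMonoidHom.toMultiplicative (lin p r))).range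

theorem mem_plane {r : F} {x : PSL} : x ∈ plane p r ↔ ∃ i j : ZMod p, uu (ι p i + ι p j * r) = x := by
  constructor
  · rintro ⟨w, rfl⟩
    exact ⟨w.toAdd.1, w.toAdd.2, rfl⟩
  · rintro ⟨i, j, rfl⟩
    exact ⟨Multiplicative.ofAdd (i, j), rfl⟩

theorem lin_injective {r : F} (hr : ∀ a : ZMod p, r ≠ ι p a) : Function.Injective (lin p r) := by
  rw [injective_iff_map_eq_zero]
  rintro ⟨i, j⟩ h
  change ι p i + ι p j * r = 0 at h
  by_cases hj : j = 0
  · subst hj
    rw [map_zero, zero_mul, add_zero] at h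
    exact Prod.ext ((map_eq_zero_iff _ (ι (F := F) p).injective).1 h) rfl
  · exfalso
    refine hr (-i / j) ?_
    have : ι (F := F) p j ≠ 0 := fun e => hj ((map_eq_zero_iff _ (ι (F := F) p).injective).1 e)
    rw [map_div₀, map_neg, eq_div_iff this]
    linear_combination h

theorem card_plane {r : F} (hr : ∀ a : ZMod p, r ≠ ι p a) : Nat.card (plane p r) = p ^ 2 := by
  have hinj : Function.Injective
      ((uHom : Multiplicative F →* PSL).comp (AddMonoidHom.toMultiplicative (lin p r))) := by
    intro a b h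
    exact Multiplicative.toAdd.injective (lin_injective p hr (uu_injective (F := F) h))
  rw [plane, ← Nat.card_congr (MonoidHom.ofInjective hinj).toEquiv,
    Nat.card_congr Multiplicative.toAdd, Nat.card_prod, Nat.card_zmod, pow_two]

theorem isPGroup_plane {r : F} (hr : ∀ a : ZMod p, r ≠ ι p a) : IsPGroup p (plane p r) :=
  IsPGroup.of_card (card_plane p hr)

/-- The hypothesis: automorphisms in `A` move one plane to every other. -/
def PlaneTrans (A : Set (MulAut (Matrix.ProjectiveSpecialLinearGroup (Fin 2) F))) : Prop :=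
  ∀ r x : F, (∀ a : ZMod p, r ≠ ι p a) → (∀ a : ZMod p, x ≠ ι p a) →
    ∃ φ ∈ A, plane p x = (plane p r).map φ.toMonoidHom

/-- In odd characteristic a member of `GL₂` moving one unitriangular element to another scales them all. -/
theorem scale_odd (hp : p ≠ 2) (g : GL (Fin 2) F) {s r : F} (hs : s ≠ 0) (h : diagAut g (uu s) = uu r) :
    ∃ c : F, ∀ t, diagAut g (uu t) = uu (c * t) := by
  have h2 : (2 : F) ≠ 0 := Ring.two_ne_zero (by rw [ringChar.eq F p]; exact hp)
  rw [uu_eq, diagAut_apply, uu_eq] at h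
  have e : (uSL r).1 * g.1 = g.1 * (uSL s).1 := by
    have hkey : (uSL r).1 = g.1 * (uSL s).1 * (g⁻¹).1 := by
      rcases mk_eq_mk.mp h with e | e
      · rw [e, coe_conjSL]
      · exfalso
        have ht := congrArg Matrix.trace e
        rw [coe_conjSL, Matrix.trace_neg, Matrix.trace_mul_cycle, ← Units.val_mul, inv_mul_cancel,
          Units.val_one, Matrix.one_mul] at ht
        simp [Matrix.trace_fin_two, coe_uSL] at ht
        have h4 : (2 : F) * 2 = 0 := by linear_combination ht
        exact h2 ((mul_self_eq_zero).1 h4)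
    rw [hkey, Matrix.mul_assoc, ← Units.val_mul, inv_mul_cancel, Units.val_one, Matrix.mul_one]
  have e10 : g.1 1 0 = 0 := by
    have := congrFun (congrFun e 1) 1
    simp [coe_uSL, Matrix.mul_apply, Fin.sum_univ_two] at this
    rcases this with h0 | h0
    · exact h0
    · exact absurd h0 hs
  have hd : g.1 1 1 ≠ 0 := fun h0 => by
    have hu := (Matrix.isUnit_iff_isUnit_det _).mp g.isUnit
    rw [Matrix.det_fin_two, e10, h0, mul_zero, mul_zero, sub_zero] at hu
    exact hu.ne_zero rfl
  refine ⟨g.1 0 0 / g.1 1 1, fun t => ?_⟩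
  rw [uu_eq, diagAut_apply, uu_eq]
  congr 1
  apply Subtype.ext
  rw [coe_conjSL]
  have e' : g.1 * (uSL t).1 = (uSL (g.1 0 0 / g.1 1 1 * t)).1 * g.1 := by
    ext i j
    fin_cases i <;> fin_cases j <;> simp [coe_uSL, Matrix.mul_apply, Fin.sum_univ_two, e10] <;>
      field_simp <;> ring
  rw [e', Matrix.mul_assoc, ← Units.val_mul, mul_inv_cancel, Units.val_one, Matrix.mul_one]

/-- An element outside the prime field is a Galois image of one of few ratios. -/
theorem exists_image {A : Set (MulAut PSL)} (hp : p ≠ 2) (hT : PlaneTrans p A) {r : F}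
    (hr : ∀ a : ZMod p, r ≠ ι p a) {x : F} (hx : ∀ a : ZMod p, x ≠ ι p a) :
    ∃ (σ : F ≃+* F) (i j : ZMod p) (o : Option (ZMod p)),
      x = σ ((ι p i + ι p j * r) / o.elim 1 fun a => r + ι p a) := by
  obtain ⟨φ, -, hφ⟩ := hT r x hr hx
  obtain ⟨g, σ, hg⟩ := exists_diag_field p φ
  have key : ∀ w : F, uu w ∈ plane p x → ∃ i j : ZMod p, φ (uu (ι p i + ι p j * r)) = uu w := by
    intro w hw
    rw [hφ] at hw
    obtain ⟨y, hy, hyw⟩ := hw
    obtain ⟨i, j, rfl⟩ := (mem_plane p).1 hy
    exact ⟨i, j, hyw⟩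
  obtain ⟨i, j, h1⟩ := key 1 ((mem_plane p).2 ⟨1, 0, by simp⟩)
  obtain ⟨i', j', hx1⟩ := key x ((mem_plane p).2 ⟨0, 1, by simp⟩)
  set u : F := ι p i + ι p j * r with hu
  set v : F := ι p i' + ι p j' * r with hv
  have hu0 : u ≠ 0 := by
    intro e
    rw [e, show (uu (0 : F) : PSL) = 1 from map_one _, map_one, ← (map_one _ : (uu (0 : F) : PSL) = 1)] at h1
    exact zero_ne_one (uu_injective h1)
  rw [hg, MulAut.mul_apply, fieldAut_uu] at h1 hx1
  obtain ⟨c, hc⟩ := scale_odd p hp g (s := σ u) (r := 1) (by simp [hu0]) h1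
  rw [hc] at h1 hx1
  have ha := uu_injective h1
  have hb := uu_injective hx1
  have hx' : x = σ (v / u) := by
    rw [map_div₀, eq_div_iff (by simp [hu0]), ← hb]
    linear_combination (σ v) * ha
  by_cases hj : j = 0
  · have hi : ι (F := F) p i ≠ 0 := fun e => hu0 (by rw [hu, hj, e]; simp)
    refine ⟨σ, i' / i, j' / i, none, ?_⟩
    rw [hx', hv, hu, hj]
    congr 1
    simp only [map_div₀, Option.elim, map_zero, zero_mul, add_zero, div_one]
    ring
  · have hj0 : ι (F := F) p j ≠ 0 := fun e => hj ((map_eq_zero_iff _ (ι (F := F) p).injective).1 e)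
    have hra : r + ι p (i / j) ≠ 0 := fun e => hr (-(i / j)) (by rw [map_neg]; linear_combination e)
    refine ⟨σ, i' / j, j' / j, some (i / j), ?_⟩
    rw [hx', hv, hu]
    congr 1
    simp only [Option.elim] at hra ⊢
    rw [map_div₀] at hra
    simp only [map_div₀]
    rw [div_eq_div_iff (by rw [← hu]; exact hu0) hra]
    field_simp
    ring

/-- The number of field elements is bounded. -/
theorem card_le {A : Set (MulAut PSL)} (hp : p ≠ 2) (hT : PlaneTrans p A) {f : ℕ}
    (hq : Fintype.card F = p ^ f) : p ^ f ≤ f * (p ^ 2 * (p + 1)) + p := by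
  classical
  haveI : Finite (F ≃+* F) := Finite.of_injective (fun σ : F ≃+* F => (σ : F → F)) DFunLike.coe_injective
  haveI : Fintype (F ≃+* F) := Fintype.ofFinite _
  have haut : Fintype.card (F ≃+* F) = f := by
    rw [← Nat.card_eq_fintype_card]
    exact (CfsgLib.Chev.ringAut_cyclic_card p (show Nat.card F = p ^ f by rw [Nat.card_eq_fintype_card, hq])).2
  by_cases hr : ∃ r : F, ∀ a : ZMod p, r ≠ ι p a
  · obtain ⟨r, hr⟩ := hr
    set P := (Finset.univ : Finset (ZMod p)).image (ι (F := F) p)
    have hsub : (Finset.univ : Finset F) ⊆ P ∪ (Finset.univ : Finset ((F ≃+* F) × (ZMod p × ZMod p) ×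
        Option (ZMod p))).image fun t =>
        t.1 ((ι p t.2.1.1 + ι p t.2.1.2 * r) / t.2.2.elim 1 fun a => r + ι p a) := by
      intro x _
      rw [Finset.mem_union]
      by_cases hx : ∀ a : ZMod p, x ≠ ι p a
      · obtain ⟨σ, i, j, o, h⟩ := exists_image p hp hT hr hx
        exact Or.inr (Finset.mem_image.2 ⟨(σ, (i, j), o), Finset.mem_univ _, h.symm⟩)
      · push Not at hx
        obtain ⟨a, rfl⟩ := hx
        exact Or.inl (Finset.mem_image.2 ⟨a, Finset.mem_univ _, rfl⟩)
    have h := (Finset.card_le_card hsub).trans ((Finset.card_union_le _ _).trans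
      (Nat.add_le_add Finset.card_image_le Finset.card_image_le))
    rw [Finset.card_univ, Finset.card_univ, Finset.card_univ, hq, ZMod.card] at h
    simp only [Fintype.card_prod, Fintype.card_option, ZMod.card, haut] at h
    rw [pow_two]
    omega
  · push Not at hr
    have hle := Fintype.card_le_of_surjective (ι (F := F) p) fun x => by
      obtain ⟨a, ha⟩ := hr x
      exact ⟨a, ha.symm⟩
    rw [hq, ZMod.card] at hle
    exact hle.trans (Nat.le_add_left _ _)

theorem bound_arith {p : ℕ} (hp : 3 ≤ p) : ∀ f, 5 ≤ f → f * (p ^ 2 * (p + 1)) + p < p ^ f := by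
  intro f hf
  induction f, hf using Nat.le_induction with
  | base =>
    have h9 : 9 * p ≤ p ^ 3 := by
      rw [pow_succ]
      exact Nat.mul_le_mul_right p (by nlinarith)
    have h5 : p ^ 5 = p ^ 2 * p ^ 3 := by rw [← pow_add]
    have hpp : p ≤ p ^ 2 := by nlinarith
    rw [h5]
    nlinarith [Nat.mul_le_mul_left (p ^ 2) h9]
  | succ f hf ih =>
    rw [pow_succ]
    have h : (f + 1) * (p ^ 2 * (p + 1)) + p ≤ (f * (p ^ 2 * (p + 1)) + p) * 2 := by
      have := Nat.le_mul_of_pos_left (p ^ 2 * (p + 1)) (show 0 < f by omega)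
      nlinarith
    calc (f + 1) * (p ^ 2 * (p + 1)) + p ≤ (f * (p ^ 2 * (p + 1)) + p) * 2 := h
      _ < p ^ f * 2 := by omega
      _ ≤ p ^ f * p := Nat.mul_le_mul_left _ (by omega)

/-- Only the prime field and its cubic extension survive. -/
theorem degree_cases {A : Set (MulAut PSL)} (hp : p ≠ 2) (hT : PlaneTrans p A) {f : ℕ} (hodd : Odd f)
    (hq : Fintype.card F = p ^ f) : f = 1 ∨ f = 3 := by
  obtain ⟨k, rfl⟩ := hodd
  rcases (show k = 0 ∨ k = 1 ∨ 2 ≤ k by omega) with rfl | rfl | hk
  · exact Or.inl rfl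
  · exact Or.inr rfl
  · exfalso
    have h := card_le p hp hT hq
    have := bound_arith (p := p) (by have := (Fact.out : p.Prime).two_le; omega) (2 * k + 1) (by omega)
    omega

end CfsgLib.PConj
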