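import Cfsg.Agent.Lib.PSL2.Out
import Cfsg.Agent.Lib.AbConj.Even
import Cfsg.Agent.Lib.PConj.Planes
import Cfsg.Agent.Lib.PConj.Basic
import Cfsg.Agent.Lib.DicksonFull.Subgroups

/-!
A group with a normal subgroup `M ≅ PSL₂(F)` of trivial centraliser and odd index inside the automorphism group.
-/

set_option autoImplicit false
set_option linter.unusedSectionVars false
set_option linter.style.haveILetI false

namespace CfsgLib.PConj

open Cfsg Subgroup CfsgLib.PSL2

universe u

/-- Field automorphisms as a homomorphism. -/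
def fieldAutHom (F : Type) [Field F] :
    RingAut F →* MulAut (Matrix.ProjectiveSpecialLinearGroup (Fin 2) F) where
  toFun := fieldAut
  map_one' := fieldAut_refl
  map_mul' a b := fieldAut_trans a b

variable {F : Type} [Field F] [Fintype F]

local notation "PSL" => Matrix.ProjectiveSpecialLinearGroup (Fin 2) F

theorem finite_psl : Finite PSL := Quotient.finite _

/-- The conjugation by the square of a member of `GL₂` is inner. -/
theorem diag_sq_inner (h : GL (Fin 2) F) : ∃ x : PSL, diagAut (h * h) = MulAut.conj x := by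
  obtain ⟨c, A, hc⟩ := exists_dil_mul (h * h)
  have hdet : c = Matrix.GeneralLinearGroup.det h * Matrix.GeneralLinearGroup.det h := by
    have h1 := congrArg Matrix.GeneralLinearGroup.det hc
    rw [map_mul, map_mul] at h1
    rw [h1]
    refine Units.ext ?_
    simp [dil, Matrix.det_fin_two_of]
  obtain ⟨x, hx⟩ := (dil_inner_iff c).2 ⟨Matrix.GeneralLinearGroup.det h, by
    rw [hdet, powMonoidHom_apply, pow_two]⟩
  exact ⟨x * mk A, by rw [hc, map_mul, hx, diagAut_toGL, map_mul]⟩

theorem three_dvd_card : 3 ∣ Nat.card PSL := by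
  have hc := DicksonFull.card_psl (F := F)
  have h3 : 3 ∣ Fintype.card F * (Fintype.card F ^ 2 - 1) := by
    by_cases h0 : 3 ∣ Fintype.card F
    · exact h0.mul_right _
    · refine Dvd.dvd.mul_left ?_ _
      have h1 : Fintype.card F ^ 2 % 3 = 1 := by
        rw [Nat.pow_mod]
        rcases (show Fintype.card F % 3 = 1 ∨ Fintype.card F % 3 = 2 by omega) with e | e <;> rw [e]
      omega
  rw [← hc] at h3
  refine (Nat.prime_three.dvd_mul.mp h3).resolve_left fun h => ?_
  have := Nat.le_of_dvd (by norm_num) (h.trans (Nat.gcd_dvd_left 2 _))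
  omega

variable {G : Type u} [Group G] [Finite G] {M : Subgroup G} [M.Normal]
  (f : M ≃* Matrix.ProjectiveSpecialLinearGroup (Fin 2) F)

/-- The action of `G` on `PSL₂(F)`. -/
noncomputable def toAut : G →* MulAut PSL := (MulAut.congr f).toMonoidHom.comp (MulAut.conjNormal : G →* MulAut M)

theorem toAut_mem (m : M) : toAut f (m : G) = MulAut.conj (f m) := by
  ext x
  show f (MulAut.conjNormal (m : G) (f.symm x)) = f m * x * (f m)⁻¹
  have : MulAut.conjNormal (m : G) (f.symm x) = m * f.symm x * m⁻¹ := Subtype.ext (by simp)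
  rw [this, map_mul, map_mul, f.apply_symm_apply, map_inv]

theorem toAut_injective (hcent : centralizer (M : Set G) = ⊥) : Function.Injective (toAut f) := by
  refine (MulAut.congr f).injective.comp ?_
  rw [injective_iff_map_eq_one]
  intro g hg
  have : g ∈ centralizer (M : Set G) := mem_centralizer_iff.2 fun m hm => by
    have h1 := congrArg (fun φ : MulAut M => ((φ ⟨m, hm⟩ : M) : G)) hg
    simp only [MulAut.conjNormal_apply, MulAut.one_apply] at h1
    exact (mul_inv_eq_iff_eq_mul.1 h1).symm
  rwa [hcent, mem_bot] at this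

theorem mem_of_inner (hcent : centralizer (M : Set G) = ⊥) {g : G} {y : PSL} (h : toAut f g = MulAut.conj y) :
    g ∈ M := by
  have : g = ((f.symm y : M) : G) := toAut_injective f hcent (by rw [h, toAut_mem, f.apply_symm_apply])
  rw [this]
  exact (f.symm y).2

section

variable (p : ℕ) [Fact p.Prime] [CharP F p]

/-- The field part of the action. -/
noncomputable def toField : G →* RingAut F := (fieldPart p).comp (toAut f)

theorem toField_mem {g : G} (hg : g ∈ M) : toField f p g = 1 := by
  obtain ⟨A, hA⟩ := QuotientGroup.mk'_surjective _ (f ⟨g, hg⟩)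
  show fieldPart p (toAut f g) = 1
  refine fieldPart_eq p (g := Matrix.SpecialLinearGroup.toGL A) (e := RingEquiv.refl F) ?_
  rw [show toAut f g = MulAut.conj (f ⟨g, hg⟩) from toAut_mem f ⟨g, hg⟩, fieldAut_refl, mul_one, diagAut_toGL, ← hA]

variable (hcent : centralizer (M : Set G) = ⊥) (hodd : ¬ 2 ∣ M.index)
include f p hcent hodd

theorem ker_toField : (toField f p).ker = M := by
  refine le_antisymm (fun g hg => ?_) fun g hg => toField_mem f p hg
  obtain ⟨h, hh⟩ := exists_of_fieldPart_eq_one p (φ := toAut f g) (MonoidHom.mem_ker.1 hg)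
  obtain ⟨x, hx⟩ := diag_sq_inner h
  have h2 : g * g ∈ M := mem_of_inner f hcent (y := x) (by rw [map_mul, hh, ← map_mul, hx])
  rw [← QuotientGroup.eq_one_iff, ← orderOf_eq_one_iff]
  have hd1 : orderOf (g : G ⧸ M) ∣ 2 := orderOf_dvd_of_pow_eq_one (by
    rw [pow_two, ← QuotientGroup.mk_mul, QuotientGroup.eq_one_iff]; exact h2)
  have hd2 : orderOf (g : G ⧸ M) ∣ M.index := by rw [Subgroup.index_eq_card]; exact orderOf_dvd_natCard _
  rcases (Nat.dvd_prime Nat.prime_two).1 hd1 with h | h
  · exact h
  · exact absurd (h ▸ hd2) hodd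

theorem card_range_toField : Nat.card (toField f p).range = M.index := by
  rw [← Subgroup.index_ker, ker_toField f p hcent hodd]

theorem index_dvd_degree {n : ℕ} (hq : Fintype.card F = p ^ n) : M.index ∣ n := by
  haveI : Finite (RingAut F) := Finite.of_injective (fun σ : F ≃+* F => (σ : F → F)) DFunLike.coe_injective
  rw [← card_range_toField f p hcent hodd]
  refine (Subgroup.card_subgroup_dvd_card _).trans (dvd_of_eq ?_)
  exact (CfsgLib.Chev.ringAut_cyclic_card p (show Nat.card F = p ^ n by rw [Nat.card_eq_fintype_card, hq])).2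

omit hodd in
/-- No element outside `M` acts as a field automorphism of order three. -/
theorem no_field_three (hP : PC G) {σ : RingAut F} (h3 : σ ^ 3 = 1) (h1 : σ ≠ 1) (x : G)
    (hx : toAut f x = fieldAut σ) : False := by
  haveI : Fact (Nat.Prime 3) := ⟨Nat.prime_three⟩
  have hfp : toField f p x = σ := fieldPart_eq p (g := 1) (e := σ) (by rw [map_one, one_mul, hx])
  have hxo : orderOf x = 3 := by
    refine orderOf_eq_prime (toAut_injective f hcent ?_) fun e => h1 ?_
    · rw [map_pow, hx, map_one, show fieldAut σ = fieldAutHom F σ from rfl, ← map_pow, h3, map_one]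
    · rw [← hfp, e, map_one]
  have hM : x ∈ M := hP.mem_normal (by rw [Nat.card_congr f.toEquiv]; exact three_dvd_card) hxo
  exact h1 (hfp.symm.trans (toField_mem f p hM))

/-- A field automorphism occurs in the field parts once the index is the whole degree. -/
theorem toField_surjective {n : ℕ} (hq : Fintype.card F = p ^ n) (hn : M.index = n) :
    Function.Surjective (toField f p) := by
  haveI : Finite (RingAut F) := Finite.of_injective (fun σ : F ≃+* F => (σ : F → F)) DFunLike.coe_injective
  rw [← MonoidHom.range_eq_top]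
  refine Subgroup.eq_top_of_card_eq _ ?_
  rw [card_range_toField f p hcent hodd, hn]
  exact (CfsgLib.Chev.ringAut_cyclic_card p (show Nat.card F = p ^ n by rw [Nat.card_eq_fintype_card, hq])).2.symm

theorem exists_field_elt {n : ℕ} (hq : Fintype.card F = p ^ n) (hn : M.index = n) (h1 : 1 < n) :
    ∃ (g : G) (σ : RingAut F) (h : GL (Fin 2) F), σ ≠ 1 ∧ σ ^ n = 1 ∧ toAut f g = diagAut h * fieldAut σ := by
  haveI : Finite (RingAut F) := Finite.of_injective (fun σ : F ≃+* F => (σ : F → F)) DFunLike.coe_injective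
  have hcard := (CfsgLib.Chev.ringAut_cyclic_card p (show Nat.card F = p ^ n by
    rw [Nat.card_eq_fintype_card, hq])).2
  haveI : Nontrivial (RingAut F) := Finite.one_lt_card_iff_nontrivial.1 (hcard.trans_gt h1)
  obtain ⟨σ, hσ⟩ := exists_ne (1 : RingAut F)
  obtain ⟨g, hg⟩ := toField_surjective f p hcent hodd hq hn σ
  obtain ⟨h, e, he⟩ := exists_diag_field p (toAut f g)
  have : e = σ := (fieldPart_eq p he).symm.trans hg
  exact ⟨g, σ, h, hσ, by rw [← hcard]; exact pow_card_eq_one', this ▸ he⟩

/-- In degree three the index is one. -/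
theorem index_one_of_three (hP : PC G) (hp : p ≠ 2) (hq : Fintype.card F = p ^ 3) : M.index = 1 := by
  rcases (Nat.dvd_prime Nat.prime_three).1 (index_dvd_degree f p hcent hodd hq) with h | h
  · exact h
  exfalso
  obtain ⟨g, σ, h', hσ1, hσ3, hg⟩ := exists_field_elt f p hcent hodd hq h (by norm_num)
  obtain ⟨c, A, rfl⟩ := exists_dil_mul h'
  set D : Fˣ → MulAut PSL := fun x => diagAut (dil x) with hD
  set y := ((f.symm (D c (mk A)) : M) : G)⁻¹ * g with hy
  have hyaut : toAut f y = D c * fieldAut σ := by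
    rw [hy, map_mul, map_inv, toAut_mem, f.apply_symm_apply, hg, map_mul, diagAut_toGL]
    have hcomm : MulAut.conj (D c (mk A)) * D c = D c * MulAut.conj (mk A) := by
      ext x
      simp [MulAut.mul_apply, MulAut.conj_apply]
    rw [← mul_assoc, show diagAut (dil c) = D c from rfl, ← hcomm, inv_mul_cancel_left]
  have hDm : ∀ a b, D (a * b) = D a * D b := fun a b => by simp only [hD, map_mul]
  have hSD : ∀ a : Fˣ, fieldAut σ * D a = D (Units.map (σ : F →+* F).toMonoidHom a) * fieldAut σ := fun a => by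
    show fieldAut σ * diagAut (dil a) = diagAut (dil _) * fieldAut σ
    rw [fieldAut_mul_diagAut]
    congr 2
    apply Units.ext
    show (dil a).1.map σ = _
    ext i j
    fin_cases i <;> fin_cases j <;> simp [dil]
  set τ := Units.map (σ : F →+* F).toMonoidHom with hτ
  have hcube : toAut f (y ^ 3) = D (c * τ c * τ (τ c)) := by
    have hS3 : fieldAut σ * fieldAut σ * fieldAut σ = (1 : MulAut PSL) := by
      rw [show fieldAut σ = fieldAutHom F σ from rfl, ← map_mul, ← map_mul]
      rw [show σ * σ * σ = σ ^ 3 from (pow_three' σ).symm, hσ3, map_one]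
    rw [map_pow, hyaut, pow_three', hDm, hDm]
    have hSD' : ∀ (a : Fˣ) (x : MulAut PSL), fieldAut σ * (D a * x) = D (τ a) * (fieldAut σ * x) := fun a x => by
      rw [← mul_assoc, hSD, mul_assoc]
    simp only [mul_assoc] at hS3 ⊢
    simp only [hSD', hS3, mul_one]
  have hy3 : y ^ 3 ∈ M := by
    rw [← ker_toField f p hcent hodd, MonoidHom.mem_ker, map_pow,
      show toField f p y = σ from fieldPart_eq p (g := dil c) (e := σ) hyaut, hσ3]
  obtain ⟨z, hz⟩ : ∃ z : PSL, diagAut (dil (c * τ c * τ (τ c))) = MulAut.conj z := by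
    refine ⟨f ⟨y ^ 3, hy3⟩, ?_⟩
    rw [← toAut_mem]
    exact hcube.symm
  obtain ⟨d, hd⟩ := (dil_inner_iff _).1 ⟨z, hz⟩
  have hchar : ringChar F ≠ 2 := by rw [ringChar.eq F p]; exact hp
  have hN : (c * τ c * τ (τ c)) ^ (Fintype.card F / 2) = 1 :=
    (FiniteField.unit_isSquare_iff hchar _).1 ⟨d, by rw [← hd, powMonoidHom_apply, pow_two]⟩
  have hcsq : c ^ (Fintype.card F / 2) = 1 := by
    apply Units.ext
    rw [Units.val_pow_eq_pow_val, Units.val_one]
    rcases FiniteField.pow_dichotomy hchar c.ne_zero with e | e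
    · exact e
    exfalso
    have hv := congrArg Units.val hN
    simp only [hτ, Units.val_pow_eq_pow_val, Units.val_mul, Units.val_one, Units.coe_map, mul_pow] at hv
    change (c : F) ^ _ * σ (c : F) ^ _ * σ (σ (c : F)) ^ _ = 1 at hv
    rw [← map_pow, ← map_pow, ← map_pow, e, map_neg, map_one, map_neg, map_one] at hv
    have h2 : (2 : F) = 0 := by linear_combination -hv
    exact Ring.two_ne_zero hchar h2
  obtain ⟨d', hd'⟩ := (FiniteField.unit_isSquare_iff hchar c).2 hcsq
  obtain ⟨w, hw⟩ := (dil_inner_iff c).2 ⟨d', by rw [powMonoidHom_apply, pow_two, hd']⟩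
  refine no_field_three f p hcent hP hσ3 hσ1 (((f.symm w : M) : G)⁻¹ * y) ?_
  rw [map_mul, map_inv, toAut_mem, f.apply_symm_apply, hyaut, show D c = MulAut.conj w from hw, inv_mul_cancel_left]

end

include f in
/-- In characteristic two and degree three the index is one. -/
theorem index_one_of_three_even (hcent : centralizer (M : Set G) = ⊥) (hodd : ¬ 2 ∣ M.index) (hP : PC G) [CharP F 2] (hq : Fintype.card F = 2 ^ 3) : M.index = 1 := by
  haveI : Fact (Nat.Prime 2) := ⟨Nat.prime_two⟩
  rcases (Nat.dvd_prime Nat.prime_three).1 (index_dvd_degree f 2 hcent hodd hq) with h | h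
  · exact h
  exfalso
  obtain ⟨g, σ, h', hσ1, hσ3, hg⟩ := exists_field_elt f 2 hcent hodd hq h (by norm_num)
  obtain ⟨x, e, he⟩ := EqualConj.exists_conj_field (toAut f g)
  obtain ⟨A, hA⟩ := QuotientGroup.mk'_surjective _ x
  have hes : e = σ := by
    refine (fieldPart_eq 2 (φ := toAut f g) (g := Matrix.SpecialLinearGroup.toGL A) ?_).symm.trans (fieldPart_eq 2 hg)
    rw [he, diagAut_toGL, ← hA]
  refine no_field_three f 2 hcent hP hσ3 hσ1 (((f.symm x : M) : G)⁻¹ * g) ?_
  rw [map_mul, map_inv, toAut_mem, f.apply_symm_apply, he, hes, inv_mul_cancel_left]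

/-- Automorphisms coming from `G` move abelian `p`-subgroups of equal order to one another. -/
theorem exists_toAut (hB : AbConj.Hyp G) {U V : Subgroup PSL} (hU : ∀ a ∈ U, ∀ b ∈ U, a * b = b * a)
    (hV : ∀ a ∈ V, ∀ b ∈ V, a * b = b * a) (hp : IsPrimePow (Nat.card U)) (h : Nat.card U = Nat.card V) :
    ∃ φ ∈ Set.range (toAut f), V = U.map φ.toMonoidHom := by
  have hc : ∀ {W : Subgroup PSL}, (∀ a ∈ W, ∀ b ∈ W, a * b = b * a) →
      ∀ a ∈ W.map f.symm.toMonoidHom, ∀ b ∈ W.map f.symm.toMonoidHom, a * b = b * a := by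
    rintro W hW _ ⟨a, ha, rfl⟩ _ ⟨b, hb, rfl⟩
    rw [← map_mul, ← map_mul, hW a ha b hb]
  obtain ⟨g, hg⟩ := AbConj.exists_act hB (hc hU) (hc hV)
    (by rwa [card_map_of_injective f.symm.injective])
    (by rw [card_map_of_injective f.symm.injective, card_map_of_injective f.symm.injective, h])
  refine ⟨toAut f g, Set.mem_range_self g, map_injective (f := f.symm.toMonoidHom) f.symm.injective ?_⟩
  rw [hg, map_map, map_map]
  congr 1
  ext x
  simp [toAut, AbConj.act]

/-- The planes are moved transitively. -/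
theorem planeTrans (p : ℕ) [Fact p.Prime] [CharP F p] (hB : AbConj.Hyp G) : PlaneTrans p (Set.range (toAut f)) := by
  intro r x hr hx
  have hc : ∀ s : F, ∀ a ∈ plane (F := F) p s, ∀ b ∈ plane (F := F) p s, a * b = b * a := by
    intro s a ha b hb
    obtain ⟨i, j, rfl⟩ := (mem_plane p).1 ha
    obtain ⟨i', j', rfl⟩ := (mem_plane p).1 hb
    show uHom _ * uHom _ = uHom _ * uHom _
    rw [← map_mul, mul_comm, map_mul]
  exact exists_toAut f hB (hc r) (hc x) (by rw [card_plane p hr]; exact (Fact.out : p.Prime).isPrimePow.pow two_ne_zero)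
    (by rw [card_plane p hr, card_plane p hx])

/-- The four-groups are moved transitively. -/
theorem fourTrans (hB : AbConj.Hyp G) [CharP F 2] : AbConj.FourTrans (Set.range (toAut f)) := by
  intro a b a' b' ha hb hab ha' hb' hab'
  exact exists_toAut f hB (AbConj.four_comm a b) (AbConj.four_comm a' b')
    (by rw [AbConj.card_four ha hb hab]; exact ⟨2, 2, Nat.prime_two.prime, by norm_num, by norm_num⟩)
    (by rw [AbConj.card_four ha hb hab, AbConj.card_four ha' hb' hab'])

include f in
/-- In degree five the index is not one. -/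
theorem index_ne_one_of_five (hB : AbConj.Hyp G) [CharP F 2] (hq : Fintype.card F = 2 ^ 5) : M.index ≠ 1 := by
  classical
  haveI : Fact (Nat.Prime 2) := ⟨Nat.prime_two⟩
  intro h1
  have htop := Subgroup.index_eq_one.1 h1
  obtain ⟨r, hr⟩ : ∃ r : F, r ∉ ({0, 1} : Finset F) := by
    by_contra h
    push Not at h
    have h2 : Fintype.card F ≤ ({0, 1} : Finset F).card := Finset.card_le_card fun x _ => h x
    have : ({0, 1} : Finset F).card ≤ 2 := Finset.card_le_two
    omega
  simp only [Finset.mem_insert, Finset.mem_singleton, not_or] at hr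
  set S : Finset F := {1, r, 1 + r} with hS
  have hsub : Finset.univ \ ({0, 1} : Finset F) ⊆ S.offDiag.image fun t => t.2 / t.1 := by
    intro x hx
    simp only [Finset.mem_sdiff, Finset.mem_univ, true_and, Finset.mem_insert, Finset.mem_singleton, not_or] at hx
    obtain ⟨σ, u, v, hu, hv, huv, he, φ, ⟨g, rfl⟩, h', hh'⟩ :=
      AbConj.exists_ratio (fourTrans f hB) hr.1 hr.2 hx.1 hx.2
    have hσ : σ = 1 := (fieldPart_eq 2 hh').symm.trans (toField_mem f 2 (htop ▸ mem_top g))
    refine Finset.mem_image.mpr ⟨(u, v), by simp [hS, Finset.mem_offDiag, hu, hv, huv], ?_⟩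
    rw [he, hσ]
    rfl
  have h := (Finset.card_le_card hsub).trans Finset.card_image_le
  rw [Finset.card_sdiff_of_subset (Finset.subset_univ _), Finset.card_univ, Finset.card_pair (zero_ne_one (α := F)),
    hq, Finset.offDiag_card] at h
  have h3 : S.card ≤ 3 := Finset.card_le_three
  interval_cases S.card <;> omega

end CfsgLib.PConj
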