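import Cfsg.Agent.Lib.PConj.AutEmb
import Cfsg.Agent.Lib.EqualConj.Almost
import Cfsg.Agent.Lib.AbConj.Main
import Cfsg.Agent.Lib.Walter.Ab.Main
import Cfsg.Agent.Lib.Walter.Main
import Cfsg.Agent.Lib.J1.Order
import Cfsg.Agent.Lib.J1.Outer
import Cfsg.Agent.S0252
import Cfsg.Agent.S0253
import Cfsg.Prelude.Def_Sporadic

/-!
# The groups with a non-normal elementary abelian Sylow 2-subgroup
-/

set_option autoImplicit false
set_option linter.unusedSectionVars false
set_option linter.style.haveILetI false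

namespace CfsgLib.PConj

open Cfsg Subgroup

universe u

variable {G : Type u} [Group G] [Finite G]

/-- A group with a normal subgroup of index one and its isomorphs. -/
theorem whole {H : Type*} [Group H] {M : Subgroup G} (e : M ≃* H) (h : M.index = 1) : Nonempty (G ≃* H) :=
  ⟨(Subgroup.topEquiv.symm.trans (MulEquiv.subgroupCongr (Subgroup.index_eq_one.1 h).symm)).trans e⟩

/-- A normal simple subgroup `J₁` with trivial centraliser is the whole group. -/
theorem j1_whole {M : Subgroup G} [M.Normal] [IsSimpleGroup M] (hcent : centralizer (M : Set G) = ⊥)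
    (hJ : Cfsg.Spor.IsoJ1 M) : Cfsg.IsJ1 G := by
  obtain ⟨e⟩ := hJ
  have hinn : ∀ φ : MulAut Cfsg.Spor.J1, ∃ y, φ = MulAut.conj y := by
    intro φ
    have h1 := CfsgLib.J1.card_out_J1
    rw [Cfsg.Out, ← Subgroup.index_eq_card, Subgroup.index_eq_one] at h1
    obtain ⟨y, hy⟩ := (h1 ▸ Subgroup.mem_top φ : φ ∈ Cfsg.Inn ↥Cfsg.Spor.J1)
    exact ⟨y, hy.symm⟩
  have htop : M = ⊤ := by
    refine eq_top_iff.2 fun g _ => ?_
    obtain ⟨y, hy⟩ := hinn (MulAut.congr e (MulAut.conjNormal g))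
    have h2 : (g : G)⁻¹ * (e.symm y : M) ∈ centralizer (M : Set G) := by
      refine mem_centralizer_iff.2 fun m hm => ?_
      have h3 := DFunLike.congr_fun hy (e ⟨m, hm⟩)
      change e (MulAut.conjNormal g (e.symm (e ⟨m, hm⟩))) = y * e ⟨m, hm⟩ * y⁻¹ at h3
      rw [e.symm_apply_apply] at h3
      have h4 : MulAut.conjNormal g (⟨m, hm⟩ : M) = e.symm y * ⟨m, hm⟩ * (e.symm y)⁻¹ :=
        e.injective (by rw [h3, map_mul, map_mul, map_inv, e.apply_symm_apply])
      have h5 := congrArg Subtype.val h4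
      simp only [MulAut.conjNormal_apply, Subgroup.coe_mul, Subgroup.coe_inv] at h5
      calc m * (g⁻¹ * (e.symm y : M)) = g⁻¹ * (g * m * g⁻¹) * (e.symm y : M) := by group
        _ = g⁻¹ * (e.symm y : M) * m := by rw [h5]; group
    rw [hcent, mem_bot, inv_mul_eq_one] at h2
    rw [h2]
    exact (e.symm y).2
  have f : ↥M ≃* G := (MulEquiv.subgroupCongr htop).trans Subgroup.topEquiv
  refine ⟨?_, ?_⟩
  · exact MulEquiv.isSimpleGroup f.symm
  · rw [← Nat.card_congr f.toEquiv, Nat.card_congr e.toEquiv, CfsgLib.J1.card_J1]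

/-- The groups with a non-normal elementary abelian Sylow 2-subgroup. -/
theorem almost_case (hP : PC G) (hcore : oddCore G = ⊥) {T : Sylow 2 G}
    (hsq : ∀ x ∈ (T : Subgroup G), x * x = 1) (hbig : 4 ≤ Nat.card (T : Subgroup G))
    (hnn : ¬ (T : Subgroup G).Normal) :
    (8 ∣ Nat.card G ∧ (Cfsg.IsJ1 G ∨
      Nonempty (G ≃* Matrix.ProjectiveSpecialLinearGroup (Fin 2) (GaloisField 2 3)) ∨
      Nonempty (G ≃* MulAut (Matrix.ProjectiveSpecialLinearGroup (Fin 2) (GaloisField 2 5))))) ∨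
    ∃ (p : ℕ) (_ : Fact p.Prime), (p % 8 = 3 ∨ p % 8 = 5) ∧
      ((5 ≤ p ∧ Nonempty (G ≃* Matrix.ProjectiveSpecialLinearGroup (Fin 2) (ZMod p))) ∨
        Nonempty (G ≃* Matrix.ProjectiveSpecialLinearGroup (Fin 2) (GaloisField p 3))) := by
  classical
  haveI : Fact (Nat.Prime 2) := ⟨Nat.prime_two⟩
  obtain ⟨M, hMn, hTM, hS, hcent, hTnn⟩ :=
    EqualConj.exists_simple_of_invol_conj hcore (fun _ _ ha hb => hP.invol_conj ha hb) hsq hbig hnn
  haveI := hMn
  haveI := hS
  have hna : ¬ IsMulCommutative M := fun h => hTnn (Subgroup.normal_of_comm _)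
  have hB := hP.hyp
  have hodd : ¬ 2 ∣ M.index := fun h2 => T.not_dvd_index (h2.trans (Subgroup.index_dvd_of_le hTM))
  have hl : WalterAb.Listed ↥M := CfsgLib.WalterAb.listed_of_P (fun X _ _ => CfsgLib.Walter.p_all X) ↥M hS hna
    fun P => AbConj.sylow_comm hB hS hna P
  have hMG : Nat.card M ∣ Nat.card G := Subgroup.card_subgroup_dvd_card M
  rcases AbConj.cases_of_listed hB hS hna hl with ⟨F, iF, iFt, hq, ⟨e⟩⟩ | ⟨F, iF, iFt, h5, hq8, ⟨e⟩⟩ | hJ
  · obtain ⟨n, hn, hqn⟩ : ∃ n, (n = 2 ∨ n = 3 ∨ n = 5) ∧ Fintype.card F = 2 ^ n := by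
      rcases hq with h | h | h <;> exact ⟨_, by simp, h⟩
    haveI : CharP F 2 := by
      obtain ⟨p, hp⟩ := CharP.exists F
      haveI := hp
      obtain ⟨k, hpp, hk⟩ := FiniteField.card F p
      have hd : p ∣ 2 ^ n := hqn ▸ hk ▸ dvd_pow_self p k.ne_zero
      rwa [← (Nat.prime_dvd_prime_iff_eq hpp Nat.prime_two).mp (hpp.dvd_of_dvd_pow hd)]
    obtain ⟨c⟩ := SmallSylow.sl_mulEquiv_psl hqn
    set f : M ≃* Matrix.ProjectiveSpecialLinearGroup (Fin 2) F := e.trans c
    have hdn := index_dvd_degree f 2 hcent hodd hqn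
    have h8 : 3 ≤ n → 8 ∣ Nat.card G := fun h3 => by
      refine dvd_trans ?_ hMG
      rw [Nat.card_congr e.toEquiv, CfsgLib.SLCard.card_SL_two, hqn]
      exact Dvd.dvd.mul_right (by rw [show (8 : ℕ) = 2 ^ 3 from rfl]; exact pow_dvd_pow 2 h3) _
    rcases hn with rfl | rfl | rfl
    · right
      have hd1 : M.index = 1 := by
        rcases (Nat.dvd_prime Nat.prime_two).1 hdn with h | h
        · exact h
        · exact absurd (h ▸ dvd_rfl) hodd
      obtain ⟨g⟩ := whole f hd1
      obtain ⟨a⟩ := Cfsg.Agent.S0252.result (F := F) hqn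
      haveI : Fact (Nat.Prime 5) := ⟨Nat.prime_five⟩
      obtain ⟨b⟩ := Cfsg.Agent.S0253.result (F := ZMod 5) (ZMod.card 5)
      exact ⟨5, ⟨Nat.prime_five⟩, Or.inr rfl, Or.inl ⟨le_rfl, ⟨(g.trans a).trans b.symm⟩⟩⟩
    · left
      obtain ⟨g⟩ := whole f (index_one_of_three_even f hcent hodd hP hqn)
      haveI := Fintype.ofFinite (GaloisField 2 3)
      obtain ⟨d⟩ := EqualConj.psl_congr (FiniteField.ringEquivOfCardEq (K := F) (K' := GaloisField 2 3)
        (by rw [hqn, ← Nat.card_eq_fintype_card, GaloisField.card 2 3 (by norm_num)]))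
      exact ⟨h8 le_rfl, Or.inr (Or.inl ⟨g.trans d⟩)⟩
    · left
      have hd5 : M.index = 5 := by
        rcases (Nat.dvd_prime Nat.prime_five).1 hdn with h | h
        · exact absurd h (index_ne_one_of_five f hB hqn)
        · exact h
      haveI : Finite (MulAut (Matrix.ProjectiveSpecialLinearGroup (Fin 2) F)) :=
        Finite.of_injective (fun σ : MulAut (Matrix.ProjectiveSpecialLinearGroup (Fin 2) F) => (σ : _ → _))
          DFunLike.coe_injective
      have hinj := toAut_injective f hcent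
      have hbij : Function.Bijective (toAut f) := by
        rw [Nat.bijective_iff_injective_and_card]
        refine ⟨hinj, le_antisymm (Nat.card_le_card_of_injective _ hinj) ?_⟩
        refine EqualConj.card_aut_le.trans (le_of_eq ?_)
        rw [← M.index_mul_card, hd5, Nat.card_congr f.toEquiv, mul_comm,
          (CfsgLib.Chev.ringAut_cyclic_card 2 (show Nat.card F = 2 ^ 5 by rw [Nat.card_eq_fintype_card, hqn])).2]
      haveI := Fintype.ofFinite (GaloisField 2 5)
      obtain ⟨d⟩ := EqualConj.psl_congr (FiniteField.ringEquivOfCardEq (K := F) (K' := GaloisField 2 5)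
        (by rw [hqn, ← Nat.card_eq_fintype_card, GaloisField.card 2 5 (by norm_num)]))
      exact ⟨h8 (by norm_num), Or.inr (Or.inr ⟨(MulEquiv.ofBijective (toAut f) hbij).trans (MulAut.congr d)⟩)⟩
  · right
    obtain ⟨p, hchar⟩ := CharP.exists F
    haveI := hchar
    obtain ⟨k, hpp, hk⟩ := FiniteField.card F p
    haveI : Fact p.Prime := ⟨hpp⟩
    have hp2 : p ≠ 2 := by
      intro h
      have : 2 ∣ Fintype.card F := by rw [hk, h]; exact dvd_pow_self 2 k.ne_zero
      omega
    have hk_odd : Odd (k : ℕ) := by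
      rcases Nat.even_or_odd (k : ℕ) with ⟨j, hj⟩ | h
      · exfalso
        rw [hk, hj, pow_add, Nat.mul_mod] at hq8
        have : p ^ j % 8 < 8 := Nat.mod_lt _ (by norm_num)
        interval_cases p ^ j % 8 <;> simp at hq8
      · exact h
    have hdn := index_dvd_degree e p hcent hodd hk
    have hp8 : p % 8 = 3 ∨ p % 8 = 5 := by
      rcases degree_cases p hp2 (planeTrans e p hB) hk_odd hk with h | h
      · rwa [hk, h, pow_one] at hq8
      · rw [hk, h, Nat.pow_mod] at hq8
        have : p % 8 < 8 := Nat.mod_lt _ (by norm_num)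
        interval_cases p % 8 <;> simp_all
    refine ⟨p, ⟨hpp⟩, hp8, ?_⟩
    rcases degree_cases p hp2 (planeTrans e p hB) hk_odd hk with h | h
    · left
      rw [h] at hdn
      obtain ⟨g⟩ := whole e (Nat.dvd_one.1 hdn)
      haveI : Fintype (ZMod p) := ZMod.fintype p
      obtain ⟨d⟩ := EqualConj.psl_congr (FiniteField.ringEquivOfCardEq (K := F) (K' := ZMod p)
        (by rw [ZMod.card, hk, h, pow_one]))
      exact ⟨by rwa [hk, h, pow_one] at h5, ⟨g.trans d⟩⟩
    · right
      obtain ⟨g⟩ := whole e (index_one_of_three e p hcent hodd hP hp2 (by rw [hk, h]))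
      haveI := Fintype.ofFinite (GaloisField p 3)
      obtain ⟨d⟩ := EqualConj.psl_congr (FiniteField.ringEquivOfCardEq (K := F) (K' := GaloisField p 3)
        (by rw [hk, h, ← Nat.card_eq_fintype_card, GaloisField.card p 3 (by norm_num)]))
      exact ⟨g.trans d⟩
  · left
    have hG : Cfsg.IsJ1 G := j1_whole hcent hJ
    exact ⟨by rw [hG.2]; norm_num, Or.inl hG⟩

end CfsgLib.PConj
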