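import Cfsg.Agent.Lib.PConj.Almost
import Cfsg.Agent.Lib.GW.Conseq.DoubleCover
import Cfsg.Agent.S4020

/-!
# Groups with trivial odd core in which subgroups of equal prime power order are conjugate
-/

set_option autoImplicit false
set_option linter.unusedSectionVars false
set_option linter.style.haveILetI false

namespace CfsgLib.PConj

open Cfsg Subgroup
open scoped commutatorElement

universe u

variable {G : Type u} [Group G] [Finite G]

/-- A group with cyclic Sylow 2-subgroups and trivial odd core is a cyclic 2-group. -/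
theorem cyclic_case (hcore : oddCore G = ⊥) (S : Sylow 2 G) (hS : IsCyclic (S : Subgroup G)) :
    IsCyclic G ∧ IsPGroup 2 G := by
  haveI : Fact (Nat.Prime 2) := ⟨Nat.prime_two⟩
  have hnc : Subgroup.normalizer ((S : Subgroup G) : Set G) ≤ Subgroup.centralizer ((S : Subgroup G) : Set G) := by
    by_cases h2 : 2 ∣ Nat.card G
    · exact IsCyclic.normalizer_le_centralizer ((Nat.minFac_eq_two_iff _).2 h2) hS
    · have hb : (S : Subgroup G) = ⊥ := by
        rw [← Subgroup.card_eq_one, Sylow.card_eq_multiplicity, Nat.factorization_eq_zero_of_not_dvd h2, pow_zero]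
      intro g _
      rw [Subgroup.mem_centralizer_iff, hb]
      intro x hx
      rw [Subgroup.mem_bot.1 hx, one_mul, mul_one]
  obtain ⟨P, K, hK, hKP⟩ := CfsgLib.hasNormalPComplement_of_normalizer_le_centralizer S hnc
  haveI := hK
  have hK1 : K ≤ oddCore G := CfsgLib.le_oddCore (by
    rw [← hKP.index_eq_card, Nat.odd_iff, ← Nat.two_dvd_ne_zero]
    exact P.not_dvd_index)
  rw [hcore, le_bot_iff] at hK1
  rw [hK1] at hKP
  haveI : IsCyclic (P : Subgroup G) := (S.equiv P).isCyclic.mp hS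
  have e : (P : Subgroup G) ≃* G :=
    (MulEquiv.subgroupCongr (Subgroup.isComplement'_bot_left.1 hKP)).trans Subgroup.topEquiv
  exact ⟨e.isCyclic.mp inferInstance, P.2.of_equiv e⟩

/-- A double cover of `PSL₂(K)` with a unique involution is `SL₂(K)`. -/
theorem double_cover {z : G} (hzc : z ∈ Subgroup.center G) (hzo : orderOf z = 2)
    (hone : ∀ a : G, orderOf a = 2 → a = z) [(zpowers z).Normal] {K : Type} [Field K] [Fintype K]
    (hodd : Odd (Fintype.card K)) (h3 : 3 < Fintype.card K)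
    (e : G ⧸ zpowers z ≃* Matrix.ProjectiveSpecialLinearGroup (Fin 2) K) :
    Nonempty (G ≃* Matrix.SpecialLinearGroup (Fin 2) K) := by
  haveI : Fact (Nat.Prime 2) := ⟨Nat.prime_two⟩
  haveI : IsSimpleGroup (Matrix.ProjectiveSpecialLinearGroup (Fin 2) K) :=
    Matrix.ProjectiveSpecialLinearGroup.rank_two_simple (by rw [Nat.card_eq_fintype_card]; omega)
  haveI : Finite (Matrix.ProjectiveSpecialLinearGroup (Fin 2) K) := Quotient.finite _
  set π := e.toMonoidHom.comp (QuotientGroup.mk' (zpowers z)) with hπ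
  have hs : Function.Surjective π := e.surjective.comp (QuotientGroup.mk'_surjective _)
  -- the commutator subgroup maps onto the simple group
  have hD : (commutator G).map π = ⊤ := by
    haveI : ((commutator G).map π).Normal := Subgroup.Normal.map inferInstance π hs
    rcases this.eq_bot_or_eq_top with h | h
    · exfalso
      -- the unitriangular elements do not commute
      have hne : ¬ Commute (CfsgLib.PSL2.vv (1 : K)) (CfsgLib.PSL2.uu 1) := fun hc => by
        have h1 : (CfsgLib.PSL2.vSL (1 : K)).1 1 0 = 0 := CfsgLib.PSL2.upper_of_normalizes _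
          ⟨Multiplicative.ofAdd 1, by rw [← CfsgLib.PSL2.vv_eq, hc.eq, mul_inv_cancel_right]⟩
        simp [CfsgLib.PSL2.coe_vSL] at h1
      obtain ⟨x, hx⟩ := hs (CfsgLib.PSL2.vv 1)
      obtain ⟨y, hy⟩ := hs (CfsgLib.PSL2.uu 1)
      refine hne (hx ▸ hy ▸ ?_)
      have hm : π ⁅x, y⁆ ∈ (commutator G).map π :=
        ⟨_, Subgroup.commutator_mem_commutator (Subgroup.mem_top x) (Subgroup.mem_top y), rfl⟩
      rw [h, mem_bot, map_commutatorElement, commutatorElement_eq_one_iff_mul_comm] at hm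
      exact hm
    · exact h
  have heven : 2 ∣ Nat.card (commutator G) := by
    refine dvd_trans ?_ (Subgroup.card_map_dvd (H := commutator G) π)
    rw [hD, Subgroup.card_top]
    have hc := CfsgLib.DicksonFull.card_psl (F := K)
    obtain ⟨j, hj⟩ := hodd
    rw [Nat.gcd_eq_left (show 2 ∣ Fintype.card K - 1 from ⟨j, by omega⟩), hj,
      show (2 * j + 1) ^ 2 - 1 = 4 * (j * (j + 1)) from by
        rw [show (2 * j + 1) ^ 2 = 4 * (j * (j + 1)) + 1 by ring, Nat.add_sub_cancel]] at hc
    exact ⟨(2 * j + 1) * (j * (j + 1)), by linarith⟩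
  obtain ⟨a, ha⟩ := exists_prime_orderOf_dvd_card' (G := commutator G) 2 heven
  have hz : z ∈ commutator G := hone a (by rw [Subgroup.orderOf_coe, ha]) ▸ a.2
  haveI : Group.IsPerfect G := ⟨eq_top_iff.2 fun g _ => by
    obtain ⟨d, hd, hde⟩ : π g ∈ (commutator G).map π := hD ▸ Subgroup.mem_top _
    have hk : d⁻¹ * g ∈ zpowers z := (QuotientGroup.eq (s := zpowers z)).1 (e.injective hde)
    rw [show g = d * (d⁻¹ * g) by group]
    exact mul_mem hd (zpowers_le.2 hz hk)⟩
  exact CfsgLib.GWConseq.double_cover_PSL hodd h3 (zpowers z) (by rw [Nat.card_zpowers, hzo]) (zpowers_le.2 hzc) e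

/-- The list of S4019 for a group with trivial odd core. -/
theorem list_of_core (hP : PC G) (hcore : oddCore G = ⊥) :
    (IsCyclic G ∧ IsPGroup 2 G) ∨
    Nonempty (G ≃* Cfsg.affineGroup (GaloisField 2 3)) ∨
    Nonempty (G ≃* Cfsg.semiaffineGroup (GaloisField 2 3)) ∨
    Nonempty (G ≃* Cfsg.semiaffineGroup (GaloisField 2 5)) ∨
    Cfsg.IsJ1 G ∨
    Nonempty (G ≃* Matrix.ProjectiveSpecialLinearGroup (Fin 2) (GaloisField 2 3)) ∨
    Nonempty (G ≃* MulAut (Matrix.ProjectiveSpecialLinearGroup (Fin 2) (GaloisField 2 5))) ∨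
    (∃ (p : ℕ) (_ : Fact p.Prime), (p % 8 = 3 ∨ p % 8 = 5) ∧
      (Nonempty (G ≃* Matrix.ProjectiveSpecialLinearGroup (Fin 2) (ZMod p)) ∨
       Nonempty (G ≃* Matrix.ProjectiveSpecialLinearGroup (Fin 2) (GaloisField p 3)) ∨
       Nonempty (G ≃* Matrix.SpecialLinearGroup (Fin 2) (ZMod p)) ∨
       Nonempty (G ≃* Matrix.SpecialLinearGroup (Fin 2) (GaloisField p 3)))) := by
  classical
  haveI : Fact (Nat.Prime 2) := ⟨Nat.prime_two⟩
  obtain ⟨S⟩ : Nonempty (Sylow 2 G) := inferInstance
  rcases Cfsg.Agent.S4020.result hP S with h | h | ⟨⟨e⟩⟩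
  · exact Or.inl (cyclic_case hcore S h)
  · have hsq : ∀ x ∈ (S : Subgroup G), x * x = 1 := fun x hx => by rw [← pow_two]; exact h.2 x hx
    by_cases hbig : 4 ≤ Nat.card (S : Subgroup G)
    · by_cases hn : (S : Subgroup G).Normal
      · rcases normal_case hP hcore hsq hbig hn with ⟨-, -, h3⟩ | ⟨-, h8 | h8 | h32⟩
        · exact Or.inr <| Or.inr <| Or.inr <| Or.inr <| Or.inr <| Or.inr <| Or.inr
            ⟨3, ⟨Nat.prime_three⟩, Or.inl rfl, Or.inl h3⟩
        · exact Or.inr (Or.inl h8)
        · exact Or.inr (Or.inr (Or.inl h8))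
        · exact Or.inr (Or.inr (Or.inr (Or.inl h32)))
      · rcases almost_case hP hcore hsq hbig hn with ⟨-, hJ | h8 | h32⟩ | ⟨p, hp, hp8, ⟨-, h1⟩ | h3⟩
        · exact Or.inr (Or.inr (Or.inr (Or.inr (Or.inl hJ))))
        · exact Or.inr (Or.inr (Or.inr (Or.inr (Or.inr (Or.inl h8)))))
        · exact Or.inr (Or.inr (Or.inr (Or.inr (Or.inr (Or.inr (Or.inl h32))))))
        · exact Or.inr <| Or.inr <| Or.inr <| Or.inr <| Or.inr <| Or.inr <| Or.inr ⟨p, hp, hp8, Or.inl h1⟩
        · exact Or.inr <| Or.inr <| Or.inr <| Or.inr <| Or.inr <| Or.inr <| Or.inr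
            ⟨p, hp, hp8, Or.inr (Or.inl h3)⟩
    · refine Or.inl (cyclic_case hcore S ?_)
      obtain ⟨k, hk⟩ := IsPGroup.iff_card.mp S.2
      have hk1 : k ≤ 1 := by
        by_contra hc
        have : 2 ^ 2 ≤ 2 ^ k := Nat.pow_le_pow_right two_pos (by omega)
        omega
      rcases (show k = 0 ∨ k = 1 by omega) with rfl | rfl
      · haveI : Subsingleton (S : Subgroup G) :=
          Finite.card_le_one_iff_subsingleton.1 (by rw [hk, pow_zero])
        exact isCyclic_of_subsingleton
      · exact isCyclic_of_prime_card (by rw [hk, pow_one])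
  · refine Or.inr <| Or.inr <| Or.inr <| Or.inr <| Or.inr <| Or.inr <| Or.inr ?_
    obtain ⟨z, hzc, hzo, hone, hrest⟩ := EqualConj.quat_reduce hcore S e
    haveI hZn : (zpowers z).Normal := ⟨fun x hx g => by
      obtain ⟨k, rfl⟩ := hx
      show g * z ^ k * g⁻¹ ∈ zpowers z
      rw [((show Commute g z from Subgroup.mem_center_iff.1 hzc g).zpow_right k).eq, mul_inv_cancel_right]
      exact zpow_mem (mem_zpowers z) k⟩
    obtain ⟨hcore', T, hsq, hT4, hTS⟩ := hrest
    have hG : Nat.card G = Nat.card (G ⧸ zpowers z) * 2 := by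
      rw [Subgroup.card_eq_card_quotient_mul_card_subgroup (zpowers z), Nat.card_zpowers, hzo]
    by_cases hn : (T : Subgroup (G ⧸ zpowers z)).Normal
    · obtain ⟨-, h12, -⟩ := (normal_case (hP.quotient _) hcore' hsq hT4.ge hn).resolve_right fun h => h.1 hT4
      haveI := hTS hn
      exact ⟨3, ⟨Nat.prime_three⟩, Or.inl rfl,
        Or.inr (Or.inr (Or.inl (EqualConj.quat_sl23 hcore S e (by rw [hG, h12]))))⟩
    · rcases almost_case (hP.quotient _) hcore' hsq hT4.ge hn with ⟨h8, -⟩ | ⟨p, hp, hp8, hc⟩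
      · exfalso
        have h1 := (T : Subgroup (G ⧸ zpowers z)).index_mul_card
        rw [hT4] at h1
        exact T.not_dvd_index (by omega)
      haveI := hp
      have hpodd : Odd p := Nat.odd_iff.2 (by omega)
      refine ⟨p, hp, hp8, Or.inr (Or.inr ?_)⟩
      rcases hc with ⟨h5, ⟨f⟩⟩ | ⟨⟨f⟩⟩
      · haveI : Fintype (ZMod p) := ZMod.fintype p
        exact Or.inl (double_cover hzc hzo hone (by rwa [ZMod.card]) (by rw [ZMod.card]; omega) f)
      · haveI := Fintype.ofFinite (GaloisField p 3)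
        have hc3 : Fintype.card (GaloisField p 3) = p ^ 3 := by
          rw [← Nat.card_eq_fintype_card, GaloisField.card p 3 (by norm_num)]
        refine Or.inr (double_cover hzc hzo hone (by rw [hc3]; exact hpodd.pow) ?_ f)
        have : 3 ^ 3 ≤ p ^ 3 := Nat.pow_le_pow_left (by have := hp.out.two_le; omega) 3
        omega

end CfsgLib.PConj
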